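import Mathlib.FieldTheory.PurelyInseparable.Basic
import Mathlib.FieldTheory.SeparableClosure
import Mathlib.FieldTheory.IsAlgClosed.Basic
import Mathlib.RingTheory.Artinian.Module
import Mathlib.RingTheory.LocalRing.Length
import Mathlib.LinearAlgebra.Dimension.Constructions
import Mathlib.RingTheory.Localization.AtPrime.Basic

/-!
# The local rings of `K ⊗_k F` for an algebraically closed `K`
-/

set_option autoImplicit false
set_option linter.style.haveILetI false
set_option linter.unusedSectionVars false
set_option maxHeartbeats 1000000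
set_option synthInstance.maxHeartbeats 200000

universe u

open TensorProduct

namespace Groth.Agent.InsepPoint

variable (k K F : Type u) [Field k] [Field K] [Algebra k K] [IsAlgClosed K] [Field F] [Algebra k F]
  [FiniteDimensional k F]

/-- The length of a local ring of `K ⊗_k F` is the inseparable degree of `F` over `k`. -/
theorem length_localization (P : Ideal (K ⊗[k] F)) [P.IsPrime] :
    (Module.length (Localization.AtPrime P) (Localization.AtPrime P)).toNat = Field.finInsepDegree k F := by
  classical
  let A := K ⊗[k] F
  haveI : IsArtinianRing A := isArtinian_of_tower K inferInstance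
  haveI : P.IsMaximal := IsArtinianRing.isMaximal_of_isPrime P
  let AP := Localization.AtPrime P
  have hbij : Function.Bijective (algebraMap K (A ⧸ P)) := by
    letI := Ideal.Quotient.field P
    haveI : Module.Finite K (A ⧸ P) := Module.Finite.of_surjective (Ideal.Quotient.mkₐ K P).toLinearMap
      Ideal.Quotient.mk_surjective
    exact IsAlgClosed.algebraMap_bijective_of_isIntegral
  let π : A →ₐ[K] K := (AlgEquiv.ofBijective (Algebra.ofId K (A ⧸ P)) hbij).symm.toAlgHom.comp (Ideal.Quotient.mkₐ K P)
  have hπP : ∀ a : A, π a = 0 ↔ a ∈ P := fun a => by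
    show (AlgEquiv.ofBijective (Algebra.ofId K (A ⧸ P)) hbij).symm (Ideal.Quotient.mk P a) = 0 ↔ _
    rw [EmbeddingLike.map_eq_zero_iff, Ideal.Quotient.eq_zero_iff_mem]
  let ι₂ : F →ₐ[k] A := Algebra.TensorProduct.includeRight
  let E := separableClosure k F
  let σ : E →ₐ[k] K := ((π.restrictScalars k).comp ι₂).comp E.val
  have hι : ∀ e : E, algebraMap A AP (ι₂ e.1) = algebraMap K AP (σ e) := by
    intro e
    have hint : IsIntegral k e := Algebra.IsIntegral.isIntegral e
    let g := minpoly k e
    have hsep : (g.map (algebraMap k K)).Separable :=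
      Polynomial.Separable.map (f := algebraMap k K) (Algebra.IsSeparable.isSeparable k e)
    have hroot : (g.map (algebraMap k K)).IsRoot (σ e) := by
      rw [Polynomial.IsRoot.def, Polynomial.eval_map, ← Polynomial.aeval_def, Polynomial.aeval_algHom_apply,
        minpoly.aeval, map_zero]
    obtain ⟨h, hh⟩ := Polynomial.dvd_iff_isRoot.2 hroot
    have hne : h.eval (σ e) ≠ 0 := fun h0 => by
      have := hsep.squarefree (Polynomial.X - Polynomial.C (σ e)) (by
        obtain ⟨h', rfl⟩ := Polynomial.dvd_iff_isRoot.2 h0
        exact ⟨h', by rw [hh]; ring⟩)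
      exact Polynomial.not_isUnit_X_sub_C (σ e) this
    have hga : Polynomial.aeval (ι₂ e.1) (g.map (algebraMap k K)) = 0 := by
      rw [Polynomial.aeval_map_algebraMap, show ι₂ e.1 = (ι₂.comp E.val) e from rfl, Polynomial.aeval_algHom_apply,
        minpoly.aeval, map_zero]
    have hu : IsUnit (algebraMap A AP (Polynomial.aeval (ι₂ e.1) h)) := by
      refine IsLocalization.map_units AP (⟨_, fun hP => hne ?_⟩ : P.primeCompl)
      have h1 := (hπP _).2 hP
      rwa [← Polynomial.aeval_algHom_apply, Polynomial.aeval_def, Algebra.algebraMap_self,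
        Polynomial.eval₂_id] at h1
    rw [hh, map_mul, Polynomial.aeval_sub, Polynomial.aeval_X, Polynomial.aeval_C] at hga
    have h2 := congrArg (algebraMap A AP) hga
    rw [map_mul, map_zero, hu.mul_left_eq_zero, map_sub, sub_eq_zero, ← IsScalarTower.algebraMap_apply] at h2
    exact h2
  letI aEK : Algebra E K := σ.toRingHom.toAlgebra
  haveI : IsScalarTower k E K := IsScalarTower.of_algebraMap_eq fun c => (σ.commutes c).symm
  let C := K ⊗[E] F
  let Φ : A →ₐ[K] C := Algebra.TensorProduct.lift (Algebra.ofId K C)
    ((Algebra.TensorProduct.includeRight (R := E) (A := K) (B := F)).restrictScalars k) fun _ _ => Commute.all _ _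
  let jF : F →ₐ[E] AP :=
    { ((algebraMap A AP).comp ι₂.toRingHom) with commutes' := fun e => (hι e).trans (IsScalarTower.algebraMap_apply E K AP e).symm }
  let g : C →ₐ[K] AP := Algebra.TensorProduct.lift (Algebra.ofId K AP) jF fun _ _ => Commute.all _ _
  let π' : C →ₐ[K] K := Algebra.TensorProduct.lift (AlgHom.id K K)
    ({ ((π : A →+* K).comp ι₂.toRingHom) with commutes' := fun e => rfl } : F →ₐ[E] K) fun _ _ => Commute.all _ _
  have hπ' : ∀ a : A, π' (Φ a) = π a := fun a => by
    induction a using TensorProduct.induction_on with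
    | zero => simp
    | tmul c f =>
      have e1 : (c ⊗ₜ[k] f : A) = algebraMap K A c * ι₂ f := by
        simp [ι₂, Algebra.TensorProduct.algebraMap_apply, A]
      rw [e1, map_mul, map_mul, map_mul, AlgHom.commutes, AlgHom.commutes, AlgHom.commutes]
      congr 1
      simp [Φ, π', ι₂, C, A]
    | add x y hx hy => simp only [map_add, hx, hy]
  have hunit : ∀ z : C, π' z ≠ 0 → IsUnit z := fun z hz => by
    obtain ⟨n, hn, c, hc⟩ := IsPurelyInseparable.exists_pow_mem_range_tensorProduct (k := E) (R := K) z
    have h1 : π' (z ^ n) = c := by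
      rw [← hc]
      exact π'.commutes c
    have hc0 : c ≠ 0 := by
      rw [← h1, map_pow]; exact pow_ne_zero _ hz
    exact (isUnit_pow_iff hn.ne').1 (hc ▸ (Ne.isUnit hc0).map (algebraMap K C))
  let h : AP →+* C := IsLocalization.lift (M := P.primeCompl) (g := (Φ : A →+* C)) fun y =>
    hunit _ (by rw [show ((Φ : A →+* C) y) = Φ y from rfl, hπ']; exact fun h0 => y.2 ((hπP _).1 h0))
  have hgΦ : ∀ a : A, g (Φ a) = algebraMap A AP a := fun a => by
    induction a using TensorProduct.induction_on with
    | zero => simp
    | tmul c f =>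
      have e1 : (c ⊗ₜ[k] f : A) = algebraMap K A c * ι₂ f := by
        simp [ι₂, Algebra.TensorProduct.algebraMap_apply, A]
      rw [e1, map_mul, map_mul, map_mul, AlgHom.commutes, AlgHom.commutes, ← IsScalarTower.algebraMap_apply K A AP]
      congr 1
      simp [Φ, g, jF, ι₂, A, C]
    | add x y hx hy => simp only [map_add, hx, hy]
  have hΦs : Function.Surjective Φ := fun z => by
    induction z using TensorProduct.induction_on with
    | zero => exact ⟨0, map_zero _⟩
    | tmul c f =>
      refine ⟨algebraMap K A c * ι₂ f, ?_⟩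
      rw [map_mul, AlgHom.commutes]
      simp [Φ, ι₂, C, A, Algebra.TensorProduct.algebraMap_apply]
    | add x y hx hy =>
      obtain ⟨a, rfl⟩ := hx
      obtain ⟨b, rfl⟩ := hy
      exact ⟨a + b, map_add _ _ _⟩
  have hh : ∀ z : C, h (g z) = z := fun z => by
    obtain ⟨a, rfl⟩ := hΦs z
    rw [hgΦ]
    exact IsLocalization.lift_eq _ a
  have hg : ∀ w : AP, g (h w) = w := fun w => by
    have := IsLocalization.ringHom_ext P.primeCompl (j := (g : C →+* AP).comp h) (k := RingHom.id AP)
      (RingHom.ext fun a => by
        show g (h (algebraMap A AP a)) = algebraMap A AP a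
        rw [show h (algebraMap A AP a) = Φ a from IsLocalization.lift_eq _ a, hgΦ])
    exact congrArg (fun r : AP →+* AP => r w) this
  let eK : C ≃ₗ[K] AP :=
    { g.toLinearMap with
      invFun := h
      left_inv := hh
      right_inv := hg }
  haveI : FiniteDimensional E F := Module.Finite.of_restrictScalars_finite k E F
  haveI : Module.Finite K AP := Module.Finite.equiv eK
  have hfin : Module.finrank K AP = Field.finInsepDegree k F := by
    rw [← eK.finrank_eq, Module.finrank_baseChange]
    rfl
  haveI : IsLocalHom (algebraMap K AP) := ⟨fun c hc => (ne_of_apply_ne (algebraMap K AP) (by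
    rw [map_zero]; exact hc.ne_zero)).isUnit⟩
  have hres : Module.length (IsLocalRing.ResidueField K) (IsLocalRing.ResidueField AP) = 1 := by
    have hsurj : Function.Surjective (algebraMap (IsLocalRing.ResidueField K) (IsLocalRing.ResidueField AP)) := by
      intro z
      obtain ⟨w, rfl⟩ := IsLocalRing.residue_surjective z
      obtain ⟨⟨a, s⟩, rfl⟩ := IsLocalization.mk'_surjective P.primeCompl w
      refine ⟨IsLocalRing.residue K (π a * (π s.1)⁻¹), ?_⟩
      show IsLocalRing.residue AP (algebraMap K AP _) = _
      refine (Ideal.Quotient.eq.2 ?_)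
      have hs : π s.1 ≠ 0 := fun h0 => s.2 ((hπP _).1 h0)
      rw [IsLocalRing.mem_maximalIdeal]
      intro hu
      have hs' : algebraMap A AP (algebraMap K A (π a * (π s.1)⁻¹) * s.1 - a) =
          (algebraMap K AP (π a * (π s.1)⁻¹) - IsLocalization.mk' AP a s) * algebraMap A AP s.1 := by
        rw [sub_mul, IsLocalization.mk'_spec, map_sub, map_mul, ← IsScalarTower.algebraMap_apply]
      have hmem : algebraMap K A (π a * (π s.1)⁻¹) * s.1 - a ∈ P := (hπP _).1 (by
        rw [map_sub, map_mul, AlgHom.commutes, Algebra.algebraMap_self, RingHom.id_apply, inv_mul_cancel_right₀ hs,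
          sub_self])
      have := (IsLocalization.AtPrime.to_map_mem_maximal_iff AP P _).2 hmem
      rw [hs', IsLocalRing.mem_maximalIdeal] at this
      exact this (hu.mul (IsLocalization.map_units AP s))
    rw [Module.length_eq_of_surjective (M := IsLocalRing.ResidueField AP) hsurj]
    exact Module.length_eq_one _ _
  have hlen := IsLocalRing.length_restrictScalars K AP AP
  rw [hres, mul_one, Module.length_eq_rank, ← Module.finrank_eq_rank, hfin, Cardinal.toENat_nat] at hlen
  rw [← hlen, ENat.toNat_natCast]

end Groth.Agent.InsepPoint
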